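import Mathlib
import Cfsg.Agent.H902.Facts
import Cfsg.Agent.H719.Dom4

/-!
# The `r`-part of the order of a simple group of Lie type in characteristic different from `r` is less than the
fourth root of the order, with a list of exceptions: tools
-/

set_option autoImplicit false

namespace Cfsg.Agent.H719.Quart

open Finset Cfsg.Agent.H902.Lte Cfsg.Agent.H902.Art

/-- the reduction to the numerator -/
theorem core {X : Sh} {p f M r : ℕ} (h : Real X p f M) (hr : r.Prime) (hrp : r ≠ p)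
    (hb : P r (num X (p ^ f)) ^ 4 * dd X (p ^ f) <
      P r (dd X (p ^ f)) ^ 4 * ((p ^ f) ^ NN X * num X (p ^ f))) : P r M ^ 4 < M := by
  have h1 := h.P_other hr hrp
  rw [← h1, ← h.eq, mul_pow] at hb
  have h2 : (P r (dd X (p ^ f)) ^ 4 * dd X (p ^ f)) * P r M ^ 4 <
      (P r (dd X (p ^ f)) ^ 4 * dd X (p ^ f)) * M := by
    calc (P r (dd X (p ^ f)) ^ 4 * dd X (p ^ f)) * P r M ^ 4 =
          P r (dd X (p ^ f)) ^ 4 * P r M ^ 4 * dd X (p ^ f) := by ring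
      _ < P r (dd X (p ^ f)) ^ 4 * (dd X (p ^ f) * M) := hb
      _ = _ := by ring
  exact Nat.lt_of_mul_lt_mul_left h2

/-- the reduction, forgetting the `r`-part of `dd` -/
theorem core' {X : Sh} {p f M r : ℕ} (h : Real X p f M) (hr : r.Prime) (hrp : r ≠ p)
    (hb : P r (num X (p ^ f)) ^ 4 * dd X (p ^ f) < (p ^ f) ^ NN X * num X (p ^ f)) :
    P r M ^ 4 < M := by
  refine core h hr hrp (lt_of_lt_of_le hb ?_)
  exact Nat.le_mul_of_pos_left _ (pow_pos (P_pos hr) 4)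

/-- an inequality `c (x+1)^k < d x^K` holds for all `x ≥ Q` if it holds for `Q` -/
theorem pw {x Q c d k K : ℕ} (hx : Q ≤ x) (hQ : 1 ≤ Q) (hkK : k ≤ K)
    (hnum : c * (Q + 1) ^ k < d * Q ^ K) : c * (x + 1) ^ k < d * x ^ K := by
  have h1 : (x + 1) * Q ≤ (Q + 1) * x := by nlinarith
  have h2 : (x + 1) ^ k * Q ^ k ≤ (Q + 1) ^ k * x ^ k := by
    rw [← mul_pow, ← mul_pow]; exact Nat.pow_le_pow_left h1 k
  have hx0 : 0 < x := by omega
  obtain ⟨j, rfl⟩ := Nat.exists_eq_add_of_le hkK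
  have h3 : Q ^ j ≤ x ^ j := Nat.pow_le_pow_left hx j
  have h4 : Q ^ k * (c * (x + 1) ^ k) < Q ^ k * (d * x ^ (k + j)) := by
    calc Q ^ k * (c * (x + 1) ^ k) = c * ((x + 1) ^ k * Q ^ k) := by ring
      _ ≤ c * ((Q + 1) ^ k * x ^ k) := Nat.mul_le_mul_left _ h2
      _ = (c * (Q + 1) ^ k) * x ^ k := by ring
      _ < (d * Q ^ (k + j)) * x ^ k := Nat.mul_lt_mul_of_pos_right hnum (pow_pos hx0 _)
      _ = d * Q ^ k * x ^ k * Q ^ j := by rw [pow_add]; ring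
      _ ≤ d * Q ^ k * x ^ k * x ^ j := Nat.mul_le_mul_left _ h3
      _ = Q ^ k * (d * x ^ (k + j)) := by rw [pow_add]; ring
  exact Nat.lt_of_mul_lt_mul_left h4

theorem P_one {r : ℕ} : P r 1 = 1 := by simp [P]

theorem P_two_odd {r : ℕ} (hr : r.Prime) (hr2 : r ≠ 2) : P r 2 = 1 :=
  P_eq_one fun h => hr2 ((Nat.prime_dvd_prime_iff_eq hr Nat.prime_two).1 h)

theorem P_three_le {r : ℕ} : P r 3 ≤ 3 := P_le (by norm_num)

theorem P_four_odd {r : ℕ} (hr : r.Prime) (hr2 : r ≠ 2) : P r 4 = 1 :=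
  P_eq_one fun h => hr2 ((Nat.prime_dvd_prime_iff_eq hr Nat.prime_two).1
    (hr.dvd_of_dvd_pow (show r ∣ 2 ^ 2 by simpa using h)))

theorem P_six_le {r : ℕ} (hr : r.Prime) (hr2 : r ≠ 2) : P r 6 ≤ 3 := by
  have h : P r (2 * 3) = P r 2 * P r 3 := P_mul (by norm_num) (by norm_num)
  rw [P_two_odd hr hr2, one_mul] at h
  have h2 : P r 6 = P r 3 := h
  rw [h2]; exact P_three_le

/-- the `r`-part of `x^i - 1`, `r` odd -/
theorem facx {r : ℕ} (hr : r.Prime) (hr2 : r ≠ 2) {x : ℤ} (hx : 2 ≤ |x|) (hrx : ¬ (r : ℤ) ∣ x) {i : ℕ}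
    (hi : i ≠ 0) :
    P r (x ^ i - 1).natAbs = if orderOf (x : ZMod r) ∣ i then
      P r (x ^ orderOf (x : ZMod r) - 1).natAbs * P r (i / orderOf (x : ZMod r)) else 1 := by
  rw [P_eq_natAbs hr, lte_odd hr (hr.odd_of_ne_two hr2) hx hrx hi]
  split_ifs with h
  · rw [pow_add, ← P_eq_natAbs hr]
    congr 1
    rw [P, Nat.factorization_def _ hr]
  · rw [pow_zero]

theorem natAbs_sq {q : ℕ} (hq : 2 ≤ q) (k : ℕ) : (((q : ℤ) ^ 2) ^ k - 1).natAbs = q ^ (2 * k) - 1 := by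
  have h2 : ((q : ℤ) ^ 2) ^ k - 1 = ((q ^ (2 * k) - 1 : ℕ) : ℤ) := by
    rw [Nat.cast_sub (Nat.one_le_pow _ _ (by omega)), ← pow_mul]; push_cast; rfl
  rw [h2, Int.natAbs_natCast]

/-- the `r`-part of `q^(2k) - 1`, `r` odd -/
theorem fac {r q : ℕ} (hr : r.Prime) (hr2 : r ≠ 2) (hq : 2 ≤ q) (hrq : ¬ r ∣ q) :
    ∃ e R : ℕ, 1 ≤ e ∧ 1 ≤ R ∧ R ≤ q ^ e + 1 ∧ (e = 1 → R ≤ q + 1 ∧ r ∣ q ^ 2 - 1) ∧
      (∀ k, k ≠ 0 → P r (q ^ (2 * k) - 1) = if e ∣ k then R * P r (k / e) else 1) := by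
  have hx := abs_sq_ge hq
  have hrx := not_dvd_sq hr hrq
  have he := order_pos (q := q) hr hrx
  refine ⟨orderOf (((q : ℤ) ^ 2 : ℤ) : ZMod r), P r (q ^ (2 * orderOf (((q : ℤ) ^ 2 : ℤ) : ZMod r)) - 1), he,
    P_pos hr, P_sq_sub_one_le hr hr2 hq he, ?_, ?_⟩
  · intro h1
    have h2 := P_sq_sub_one_le hr hr2 hq he
    rw [h1, pow_one] at h2
    rw [h1]
    refine ⟨h2, ?_⟩
    have h3 : (r : ℤ) ∣ ((q : ℤ) ^ 2) ^ 1 - 1 := (dvd_pow_sub_one_iff 1).2 (by rw [h1])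
    have h4 := Int.natCast_dvd.1 h3
    rwa [natAbs_sq hq] at h4
  · intro k hk
    have h1 := facx hr hr2 hx hrx hk
    rwa [natAbs_sq hq, natAbs_sq hq] at h1

/-- the `2`-part of `q^(2k) - 1`, `q` odd -/
theorem fac2 {q : ℕ} (hq : 2 ≤ q) (hodd : Odd q) {k : ℕ} (hk : k ≠ 0) :
    P 2 (q ^ (2 * k) - 1) = P 2 (q ^ 2 - 1) * P 2 k := by
  have hq2 : ¬ 2 ∣ q := fun h => (Nat.not_even_iff_odd.2 hodd) (even_iff_two_dvd.2 h)
  have h2 := lte_two (x := (q : ℤ)) (by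
    have h2 : (2 : ℤ) ≤ q := by exact_mod_cast hq
    rwa [abs_of_nonneg (by positivity)]) (not_dvd_cast (r := 2) hq2) (i := 2 * k) (by omega)
  rw [if_pos (even_two_mul _), Nat.mul_div_cancel_left _ (by norm_num)] at h2
  have h3 : ∀ k : ℕ, ((q : ℤ) ^ k - 1).natAbs = q ^ k - 1 := by
    intro k
    have h4 : (q : ℤ) ^ k - 1 = ((q ^ k - 1 : ℕ) : ℤ) := by
      rw [Nat.cast_sub (Nat.one_le_pow _ _ (by omega))]; push_cast; rfl
    rw [h4, Int.natAbs_natCast]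
  have h5 : P 2 k = 2 ^ padicValNat 2 k := by rw [P, Nat.factorization_def _ Nat.prime_two]
  rw [← h3, ← h3, P_eq_natAbs Nat.prime_two, P_eq_natAbs Nat.prime_two, h2, pow_add, h5]

/-- lower bound for the symplectic product -/
theorem prodC_ge {q : ℕ} (hq : 2 ≤ q) {m : ℕ} (hm : 1 ≤ m) :
    q ^ (m * (m + 1)) * (2 * q ^ (2 * m) + 1) ≤ 3 * (∏ i ∈ range m, (q ^ (2 * (i + 1)) - 1)) * q ^ (2 * m) := by
  induction m, hm using Nat.le_induction with
  | base =>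
    rw [Finset.prod_range_one]
    show q ^ 2 * (2 * q ^ 2 + 1) ≤ 3 * (q ^ 2 - 1) * q ^ 2
    obtain ⟨t, ht⟩ := Nat.exists_eq_add_of_le' (show 4 ≤ q ^ 2 by nlinarith)
    rw [ht]
    have : t + 4 - 1 = t + 3 := by omega
    rw [this]; nlinarith
  | succ m hm ih =>
    rw [Finset.prod_range_succ]
    have e1 : q ^ (2 * (m + 1)) = q ^ 2 * q ^ (2 * m) := by rw [← pow_add]; congr 1; ring
    have e2 : q ^ ((m + 1) * (m + 1 + 1)) = q ^ (m * (m + 1)) * (q ^ 2 * q ^ (2 * m)) := by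
      rw [← pow_add, ← pow_add]; congr 1; ring
    rw [e1, e2]
    have hy : 1 ≤ q ^ (2 * m) := Nat.one_le_pow _ _ (by omega)
    have hs : 4 ≤ q ^ 2 := by nlinarith
    generalize q ^ (2 * m) = y at *
    generalize q ^ 2 = s at *
    generalize (∏ i ∈ range m, (q ^ (2 * (i + 1)) - 1)) = A at *
    generalize q ^ (m * (m + 1)) = Z at *
    have hsy : 1 ≤ s * y := Nat.mul_pos (by omega) hy
    obtain ⟨t, ht⟩ := Nat.exists_eq_add_of_le' hsy
    have h1 : (2 * y + 1) * t ≥ y * (2 * (s * y) + 1) := by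
      have h2 : (2 * y + 1) * t + (2 * y + 1) = (2 * y + 1) * (s * y) := by rw [ht]; ring
      have h3 : 4 * y ≤ s * y := Nat.mul_le_mul_right y hs
      nlinarith
    calc Z * (s * y) * (2 * (s * y) + 1) = Z * s * (y * (2 * (s * y) + 1)) := by ring
      _ ≤ Z * s * ((2 * y + 1) * t) := Nat.mul_le_mul_left _ h1
      _ = (Z * (2 * y + 1)) * (s * t) := by ring
      _ ≤ (3 * A * y) * (s * t) := Nat.mul_le_mul_right _ ih
      _ = 3 * (A * t) * (s * y) := by ring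
      _ = 3 * (A * (s * y - 1)) * (s * y) := by rw [ht, Nat.add_sub_cancel]

theorem prodC_gt {q : ℕ} (hq : 2 ≤ q) {m : ℕ} (hm : 1 ≤ m) :
    2 * q ^ (m * (m + 1)) < 3 * (∏ i ∈ range m, (q ^ (2 * (i + 1)) - 1)) := by
  have h := prodC_ge hq hm
  have hy : 0 < q ^ (2 * m) := pow_pos (by omega) _
  have hz : 0 < q ^ (m * (m + 1)) := pow_pos (by omega) _
  have h1 : (2 * q ^ (m * (m + 1))) * q ^ (2 * m) <
      (3 * (∏ i ∈ range m, (q ^ (2 * (i + 1)) - 1))) * q ^ (2 * m) := by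
    refine lt_of_lt_of_le ?_ h
    generalize q ^ (2 * m) = y at *
    generalize q ^ (m * (m + 1)) = Z at *
    nlinarith
  exact Nat.lt_of_mul_lt_mul_right h1

/-- lower bound for the linear product -/
theorem prodL_ge {q : ℕ} (hq : 2 ≤ q) {n : ℕ} (hn : 2 ≤ n) :
    q ^ (n * (n + 1) / 2 - 1) * (q ^ n + 2) ≤ 2 * (∏ i ∈ range (n - 1), (q ^ (i + 2) - 1)) * q ^ n := by
  induction n, hn using Nat.le_induction with
  | base =>
    show q ^ 2 * (q ^ 2 + 2) ≤ 2 * (∏ i ∈ range 1, (q ^ (i + 2) - 1)) * q ^ 2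
    rw [Finset.prod_range_one]
    show q ^ 2 * (q ^ 2 + 2) ≤ 2 * (q ^ 2 - 1) * q ^ 2
    obtain ⟨t, ht⟩ := Nat.exists_eq_add_of_le' (show 4 ≤ q ^ 2 by nlinarith)
    rw [ht]
    have : t + 4 - 1 = t + 3 := by omega
    rw [this]; nlinarith
  | succ n hn ih =>
    obtain ⟨k, rfl⟩ := Nat.exists_eq_add_of_le' (show 1 ≤ n by omega)
    rw [Nat.add_sub_cancel] at ih ⊢
    rw [Finset.prod_range_succ]
    have e0 : (k + 1 + 1) * (k + 1 + 1 + 1) / 2 = (k + 1) * (k + 1 + 1) / 2 + (k + 2) := by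
      have : (k + 1 + 1) * (k + 1 + 1 + 1) = (k + 1) * (k + 1 + 1) + 2 * (k + 2) := by ring
      rw [this, Nat.add_mul_div_left _ _ (by norm_num)]
    have e00 : 1 ≤ (k + 1) * (k + 1 + 1) / 2 := by
      rw [Nat.le_div_iff_mul_le (by norm_num)]; nlinarith
    have e1 : q ^ (k + 1 + 1) = q * q ^ (k + 1) := by rw [pow_succ (n := k + 1), mul_comm]
    have e2 : q ^ ((k + 1 + 1) * (k + 1 + 1 + 1) / 2 - 1) = q ^ ((k + 1) * (k + 1 + 1) / 2 - 1) * (q * q ^ (k + 1)) := by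
      rw [← e1, ← pow_add]; congr 1; omega
    rw [e2, e1]
    have hy : 4 ≤ q ^ (k + 1) := by
      calc 4 = 2 ^ 2 := by norm_num
        _ ≤ q ^ 2 := Nat.pow_le_pow_left hq 2
        _ ≤ q ^ (k + 1) := Nat.pow_le_pow_right (by omega) hn
    generalize q ^ (k + 1) = y at *
    generalize (∏ i ∈ range k, (q ^ (i + 2) - 1)) = A at *
    generalize q ^ ((k + 1) * (k + 1 + 1) / 2 - 1) = Z at *
    have hsy : 1 ≤ q * y := Nat.mul_pos (by omega) (by omega)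
    obtain ⟨t, ht⟩ := Nat.exists_eq_add_of_le' hsy
    have h1 : y * (q * y + 2) ≤ (y + 2) * t := by
      have h2 : (y + 2) * t + (y + 2) = (y + 2) * (q * y) := by rw [ht]; ring
      have h3 : 2 * y ≤ q * y := Nat.mul_le_mul_right y hq
      nlinarith
    calc Z * (q * y) * (q * y + 2) = Z * q * (y * (q * y + 2)) := by ring
      _ ≤ Z * q * ((y + 2) * t) := Nat.mul_le_mul_left _ h1
      _ = (Z * (y + 2)) * (q * t) := by ring
      _ ≤ (2 * A * y) * (q * t) := Nat.mul_le_mul_right _ ih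
      _ = 2 * (A * t) * (q * y) := by ring
      _ = 2 * (A * (q * y - 1)) * (q * y) := by rw [ht, Nat.add_sub_cancel]

theorem numL_gt {q : ℕ} (hq : 2 ≤ q) {n : ℕ} (hn : 2 ≤ n) :
    q ^ (n * (n + 1) / 2 - 1) < 2 * num (.L n) q := by
  have h := prodL_ge hq hn
  have hy : 0 < q ^ n := pow_pos (by omega) _
  have hz : 0 < q ^ (n * (n + 1) / 2 - 1) := pow_pos (by omega) _
  have h1 : q ^ (n * (n + 1) / 2 - 1) * q ^ n < (2 * num (.L n) q) * q ^ n := by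
    refine lt_of_lt_of_le ?_ h
    generalize q ^ n = y at *
    generalize q ^ (n * (n + 1) / 2 - 1) = Z at *
    nlinarith
  exact Nat.lt_of_mul_lt_mul_right h1

theorem numU_gt {q : ℕ} (hq : 2 ≤ q) {n : ℕ} (hn : 2 ≤ n) :
    q ^ (n * (n + 1) / 2 - 1) < 2 * num (.U n) q := by
  refine lt_of_lt_of_le (numL_gt hq hn) (Nat.mul_le_mul_left 2 ?_)
  refine Finset.prod_le_prod' fun i _ => ?_
  split_ifs
  · exact le_rfl
  · omega

end Cfsg.Agent.H719.Quart
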