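import Mathlib
import Cfsg.Agent.H719.Quart.SameOne

/-!
# Equal characteristic: the part of the order prime to the characteristic determines the order, III
-/

set_option autoImplicit false

namespace Cfsg.Agent.H719.Quart

open Finset Cfsg.Agent.H902.Lte Cfsg.Agent.H902.Art
open Cfsg.Agent.H66.Cod (Eqn Tgt)

/-- the finite check in characteristic two -/
theorem fin_two3 : ∀ v ∈ List.range' 1 21, ∀ a ∈ ents 2 v, ∀ w ∈ List.range' 1 21,
    ∀ b ∈ ents 2 w, w ≤ v → val 2 a = 2 ^ (v - w) * val 2 b → v = w := by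
  decide +kernel

/-- a bound for the exponent of the characteristic, one large exponent given -/
theorem bd_DM {X : Sh} {p f N : ℕ} (hX : Real X p f N) (h6 : f * DM X ≤ 6) : f * NN X ≤ 21 := by
  have hf := hX.hf
  have h1 := four_NN hX
  have h2 := kap_le hX
  have h3 : DM X ≤ 6 := by nlinarith
  have h4 : 4 * (f * NN X) = (f * DM X) * kap X := by
    calc 4 * (f * NN X) = f * (4 * NN X) := by ring
      _ = f * (DM X * kap X) := by rw [h1]
      _ = (f * DM X) * kap X := by ring
  have h5 : (f * DM X) * kap X ≤ 6 * 10 := Nat.mul_le_mul h6 (by omega)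
  omega

theorem bd_typA {X : Sh} {D d k f : ℕ} (h : TypA X D d k) (hf : 1 ≤ f) (h6 : f * (D - d) ≤ 6) : f * (D * k) ≤ 84 := by
  have hDd : d < D := by cases h <;> omega
  have hf6 : f ≤ 6 := by
    by_contra hcon
    have : 7 * 1 ≤ f * (D - d) := Nat.mul_le_mul (by omega) (by omega)
    omega
  have hD6 : D - d ≤ 6 := by
    calc D - d = 1 * (D - d) := (one_mul _).symm
      _ ≤ f * (D - d) := Nat.mul_le_mul_right _ hf
      _ ≤ 6 := h6
  cases h with
  | L _ h =>
    have hn : D ≤ 7 := by omega
    interval_cases D <;> interval_cases f <;> omega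
  | C n h =>
    have hn : n ≤ 4 := by omega
    interval_cases n <;> interval_cases f <;> omega
  | U4 => interval_cases f <;> omega
  | Ue n h =>
    have hn : n ≤ 3 := by omega
    interval_cases n; interval_cases f <;> omega
  | Uo n h =>
    have hn : n ≤ 2 := by omega
    interval_cases n; interval_cases f <;> omega
  | D n h =>
    have hn : n ≤ 5 := by omega
    interval_cases n <;> interval_cases f <;> omega
  | DD n h =>
    have hn : n ≤ 4 := by omega
    interval_cases n; interval_cases f <;> omega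
  | F4 => interval_cases f <;> omega
  | E6 => interval_cases f <;> omega
  | E7 => interval_cases f <;> omega
  | E8 => interval_cases f <;> omega
  | TE6 => interval_cases f <;> omega

/-- a bound for the exponent of the characteristic, the second large exponent given -/
theorem bd_BM {X : Sh} {p f N : ℕ} (hX : Real X p f N) (hB : DM X < 2 * BM X) (h6 : f * BM X ≤ 6) :
    f * NN X ≤ 21 := by
  have h1 := four_NN hX
  have hlt := BM_lt hX
  have h2 : DM X - (DM X - BM X) = BM X := by omega
  have h3 := bd_typA (typA hX hB) hX.hf (by rw [h2]; exact h6)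
  have h4 : 4 * (f * NN X) = f * (DM X * kap X) := by rw [← h1]; ring
  omega

/-- shapes with one large exponent: a bound -/
theorem bd_typB {X : Sh} {p f N : ℕ} (hX : Real X p f N) (hB : ¬ DM X < 2 * BM X) : f * NN X ≤ f * DM X := by
  have h1 := four_NN hX
  have h2 : kap X ≤ 4 := by
    have := typB hX hB
    generalize kap X = k at *
    generalize DM X = D at *
    cases this <;> omega
  apply Nat.mul_le_mul_left
  have h3 : DM X * kap X ≤ DM X * 4 := Nat.mul_le_mul_left _ h2
  omega

/-- `f · BM X ≤ 2` for shapes with two large exponents -/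
theorem small_BM {X : Sh} {p f N : ℕ} (hX : Real X p f N) (hB : DM X < 2 * BM X) (h2 : f * BM X ≤ 2) :
    X = .L 3 ∧ f = 1 := by
  have hA := typA hX hB
  have hlt := BM_lt hX
  have hf := hX.hf
  have hB1 : 1 ≤ BM X := by omega
  have hB2 : BM X ≤ 2 := by nlinarith
  have hD : DM X = 3 := by
    have := DM_ge hX
    omega
  have hX3 := DM_eq_three hX hD
  refine ⟨hX3, ?_⟩
  subst hX3
  have h3 : f * 2 ≤ 2 := h2
  omega

section top

variable {X Y : Sh} {p f g N M k : ℕ}

/-- equal exponents of the characteristic give `k = 1` -/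
theorem one_of_exp (hX : Real X p f N) (hY : Real Y p g M) (hk : N = k * M) (hkp : k = P p k)
    (h : f * NN X = g * NN Y) : k = 1 := by
  have h1 := H66.Cod.exps hX hY hk hkp
  rw [← pow_mul, ← pow_mul, h] at h1
  have h2 : 0 < p ^ (g * NN Y) := pow_pos hX.hp.pos _
  have h3 : k * p ^ (g * NN Y) = 1 * p ^ (g * NN Y) := by rw [one_mul]; exact h1.symm
  exact Nat.eq_of_mul_eq_mul_right h2 h3

/-- equal shapes -/
theorem one_of_shape (hX : Real X p f N) (hY : Real Y p g M) (hk : N = k * M) (hkp : k = P p k)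
    (h : X = Y) (hD : f * DM X = g * DM Y) : k = 1 := by
  subst h
  have h1 := DM_ge hX
  have h2 : f = g := Nat.eq_of_mul_eq_mul_right (by omega) hD
  subst h2
  exact one_of_exp hX hY hk hkp rfl

theorem one_of_small (hX : Real X 2 f N) (hY : Real Y 2 g M) (hk : N = k * M) (hkp : k = P 2 k)
    (h : f * NN X ≤ 21) : k = 1 := by
  have hf := hX.hf
  have hg := hY.hf
  have hNX := NN_pos hX
  have hNY := NN_pos hY
  have hle := H66.Cod.exp_le hX hY hk hkp
  have hexp := H66.Cod.exps hX hY hk hkp
  have h1 : f * NN X ∈ List.range' 1 21 := by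
    rw [List.mem_range'_1]
    have : 1 ≤ f * NN X := Nat.mul_pos hf hNX
    omega
  have h2 : g * NN Y ∈ List.range' 1 21 := by
    rw [List.mem_range'_1]
    have : 1 ≤ g * NN Y := Nat.mul_pos hg hNY
    omega
  have h3 : val 2 (X, f) = 2 ^ (f * NN X - g * NN Y) * val 2 (Y, g) := by
    rw [val_eq hX, val_eq hY, hk]
    congr 1
    have h4 : 2 ^ (f * NN X - g * NN Y) * 2 ^ (g * NN Y) = k * 2 ^ (g * NN Y) := by
      rw [← pow_add, Nat.sub_add_cancel hle, pow_mul, pow_mul, hexp]
    exact (Nat.eq_of_mul_eq_mul_right (pow_pos (by norm_num) _) h4).symm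
  exact one_of_exp hX hY hk hkp (fin_two3 _ h1 _ (mem_ents hX rfl) _ h2 _ (mem_ents hY rfl) hle h3)

/-- **The same characteristic**: if the orders of two groups of Lie type in characteristic `p` differ by a power of
`p`, they are equal. -/
theorem same_one (hX : Real X p f N) (hY : Real Y p g M) (hk : N = k * M) (hkp : k = P p k) : k = 1 := by
  have hf := hX.hf
  have hg := hY.hf
  have hNX := NN_pos hX
  have hNY := NN_pos hY
  have hle := H66.Cod.exp_le hX hY hk hkp
  have hgeX := DM_ge hX
  have hgeY := DM_ge hY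
  have hltX := BM_lt hX
  have hltY := BM_lt hY
  have hE : Eqn X Y (p ^ f) (p ^ g) := H66.Cod.cross2 hX hY hk hkp
  by_cases hsmall : p = 2 ∧ f * NN X ≤ 21
  · obtain ⟨rfl, h⟩ := hsmall
    exact one_of_small hX hY hk hkp h
  have hdXY : ∀ r : ℕ, r.Prime → r ≠ p → r ∣ N → r ∣ M := by
    intro r hr hrp hrN
    rw [hk] at hrN
    rcases hr.dvd_mul.1 hrN with h | h
    · exfalso
      rw [hkp, P] at h
      exact hrp ((Nat.prime_dvd_prime_iff_eq hr hX.hp).1 (hr.dvd_of_dvd_pow h))
    · exact h
  have hdYX : ∀ r : ℕ, r.Prime → r ≠ p → r ∣ M → r ∣ N := by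
    intro r hr hrp hrM
    rw [hk]
    exact hrM.mul_left _
  -- the case `L₂(p)`
  by_cases h2 : f * DM X ≤ 2
  · have hD2 : DM X ≤ 2 := by nlinarith
    have hX2 := DM_eq_two hX hD2
    subst hX2
    have h3 : f * 2 ≤ 2 := h2
    have h4 : f = 1 := by omega
    subst h4
    apply one_of_exp hX hY hk hkp
    have h5 : 1 * NN (.L 2) = 1 := rfl
    rw [h5] at hle ⊢
    have : 1 ≤ g * NN Y := Nat.mul_pos hg hNY
    omega
  have h6X : ¬ (p = 2 ∧ f * DM X = 6) := fun h => hsmall ⟨h.1, bd_DM hX h.2.le⟩
  have hD1 := H66.Cod.DM_le2 hX hY hdXY (by omega) h6X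
  have hD2 := H66.Cod.DM_le2 hY hX hdYX (by omega) (fun h => hsmall ⟨h.1, bd_DM hX (hD1.trans h.2.le)⟩)
  have hD : f * DM X = g * DM Y := le_antisymm hD1 hD2
  by_cases hBX : DM X < 2 * BM X
  · -- two large exponents
    by_cases h3 : f * BM X ≤ 2
    · obtain ⟨rfl, rfl⟩ := small_BM hX hBX h3
      have h4 : 1 * 3 = g * DM Y := hD
      have h5 : g ≤ 1 := by
        by_contra hcon
        have h7 : 2 ≤ g := by omega
        have h8 : 2 * 2 ≤ g * DM Y := Nat.mul_le_mul h7 hgeY.1
        omega
      have h6 : g = 1 := by omega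
      subst h6
      exact one_of_shape hX hY hk hkp (DM_eq_three hY (by omega)).symm hD
    have hB1 := H66.Cod.BM_le2 hX hY hdXY hBX hD (by omega) (fun h => hsmall ⟨h.1, bd_BM hX hBX h.2.le⟩)
    have hBY : DM Y < 2 * BM Y := by
      have h5 : g * DM Y < g * (2 * BM Y) := by
        calc g * DM Y = f * DM X := hD.symm
          _ < f * (2 * BM X) := Nat.mul_lt_mul_of_pos_left hBX hf
          _ = 2 * (f * BM X) := by ring
          _ ≤ 2 * (g * BM Y) := Nat.mul_le_mul_left _ hB1
          _ = g * (2 * BM Y) := by ring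
      exact Nat.lt_of_mul_lt_mul_left h5
    have hB2 := H66.Cod.BM_le2 hY hX hdYX hBY hD.symm (by omega)
      (fun h => hsmall ⟨h.1, bd_BM hX hBX (hB1.trans h.2.le)⟩)
    have hBB : f * BM X = g * BM Y := le_antisymm hB1 hB2
    have hdd : f * (DM X - BM X) = g * (DM Y - BM Y) := by
      rw [Nat.mul_sub, Nat.mul_sub, hD, hBB]
    have hcr : DM X * (DM Y - BM Y) = DM Y * (DM X - BM X) := by
      have h7 : f * g * (DM X * (DM Y - BM Y)) = f * g * (DM Y * (DM X - BM X)) := by
        calc f * g * (DM X * (DM Y - BM Y)) = (f * DM X) * (g * (DM Y - BM Y)) := by ring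
          _ = (g * DM Y) * (f * (DM X - BM X)) := by rw [hD, hdd]
          _ = f * g * (DM Y * (DM X - BM X)) := by ring
      exact Nat.eq_of_mul_eq_mul_left (Nat.mul_pos hf hg) h7
    exact one_of_shape hX hY hk hkp (typA_eq hX hY hE hD hBX hBY hcr) hD
  · -- one large exponent
    have hBY : ¬ DM Y < 2 * BM Y := by
      intro hBY
      by_cases h3 : g * BM Y ≤ 2
      · obtain ⟨rfl, rfl⟩ := small_BM hY hBY h3
        have h4 : f * DM X = 1 * 3 := hD
        have h5 : f ≤ 1 := by
          by_contra hcon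
          have h7 : 2 ≤ f := by omega
          have h8 : 2 * 2 ≤ f * DM X := Nat.mul_le_mul h7 hgeX.1
          omega
        have h6 : f = 1 := by omega
        subst h6
        have h7 := DM_eq_three hX (by omega)
        subst h7
        exact hBX (by decide)
      have h4 : ¬ (p = 2 ∧ g * BM Y = 6) := by
        rintro ⟨h5, h6⟩
        apply hsmall
        refine ⟨h5, (bd_typB hX hBX).trans ?_⟩
        rw [hD]
        have h7 : g * DM Y ≤ g * (2 * BM Y) := Nat.mul_le_mul_left _ hBY.le
        have h8 : g * (2 * BM Y) = 2 * (g * BM Y) := by ring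
        omega
      have hB1 := H66.Cod.BM_le2 hY hX hdYX hBY hD.symm (by omega) h4
      apply hBX
      have h5 : f * DM X < f * (2 * BM X) := by
        calc f * DM X = g * DM Y := hD
          _ < g * (2 * BM Y) := Nat.mul_lt_mul_of_pos_left hBY hg
          _ = 2 * (g * BM Y) := by ring
          _ ≤ 2 * (f * BM X) := Nat.mul_le_mul_left _ hB1
          _ = f * (2 * BM X) := by ring
      exact Nat.lt_of_mul_lt_mul_left h5
    exact one_of_shape hX hY hk hkp (typB_eq hX hY hE hD hBX hBY) hD

end top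

end Cfsg.Agent.H719.Quart
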