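import Mathlib
import Cfsg.Agent.H719.Quart.Base

/-!
# Fourth roots: the symplectic groups
-/

set_option autoImplicit false

namespace Cfsg.Agent.H719.Quart

open Finset Cfsg.Agent.H902.Lte Cfsg.Agent.H902.Art

theorem prod_ne {q : ℕ} (hq : 2 ≤ q) (m : ℕ) : ∏ i ∈ range m, (q ^ (2 * (i + 1)) - 1) ≠ 0 :=
  Finset.prod_ne_zero_iff.2 fun i _ => sub_one_ne hq (by omega)

theorem P_prod_succ {r q : ℕ} (hq : 2 ≤ q) (m : ℕ) :
    P r (∏ i ∈ range (m + 1), (q ^ (2 * (i + 1)) - 1)) =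
      P r (∏ i ∈ range m, (q ^ (2 * (i + 1)) - 1)) * P r (q ^ (2 * (m + 1)) - 1) := by
  rw [Finset.prod_range_succ, P_mul (prod_ne hq m) (sub_one_ne hq (by omega))]

theorem P_prod_zero {r q : ℕ} : P r (∏ i ∈ range 0, (q ^ (2 * (i + 1)) - 1)) = 1 := by
  rw [Finset.prod_range_zero]; exact P_one

theorem dd_C_odd {q m : ℕ} (hodd : Odd q) : dd (.C m) q = 2 := by
  show Nat.gcd 2 (q - 1) = 2
  rcases hodd with ⟨k, hk⟩
  exact Nat.gcd_eq_left ⟨k, by omega⟩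

theorem dd_C_le {q m : ℕ} : dd (.C m) q ≤ 2 := Nat.gcd_le_left _ (by norm_num)

theorem P_two_two : P 2 2 = 2 := by
  have := P_pow_self (r := 2) (k := 1) (a := 1) Nat.prime_two (by norm_num)
  simpa using this

/-- the odd case from a bound for the `r`-part -/
theorem finC {m p f M r B : ℕ} (h : Real (.C m) p f M) (hr : r.Prime) (hrp : r ≠ p)
    (hB : P r (num (.C m) (p ^ f)) ≤ B) (hb : 3 * B ^ 4 ≤ (p ^ f) ^ (2 * m ^ 2 + m)) :
    P r M ^ 4 < M := by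
  apply core' h hr hrp
  have hm : 2 ≤ m := h.ok.1
  have hq := h.q_ge
  set q := p ^ f
  have h1 := prodC_gt hq (show 1 ≤ m by omega)
  have h2 : 3 * (P r (num (.C m) q) ^ 4 * dd (.C m) q) < 3 * (q ^ (m ^ 2) * num (.C m) q) := by
    calc 3 * (P r (num (.C m) q) ^ 4 * dd (.C m) q) ≤ 3 * (B ^ 4 * 2) :=
          Nat.mul_le_mul_left 3 (Nat.mul_le_mul (Nat.pow_le_pow_left hB 4) dd_C_le)
      _ = 2 * (3 * B ^ 4) := by ring
      _ ≤ 2 * q ^ (2 * m ^ 2 + m) := Nat.mul_le_mul_left 2 hb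
      _ = q ^ (m ^ 2) * (2 * q ^ (m * (m + 1))) := by
          have : 2 * m ^ 2 + m = m ^ 2 + m * (m + 1) := by ring
          rw [this, pow_add]; ring
      _ < q ^ (m ^ 2) * (3 * ∏ i ∈ range m, (q ^ (2 * (i + 1)) - 1)) :=
          Nat.mul_lt_mul_of_pos_left h1 (pow_pos (by omega) _)
      _ = 3 * (q ^ (m ^ 2) * num (.C m) q) := by
          show _ = 3 * (q ^ (m ^ 2) * ∏ i ∈ range m, (q ^ (2 * (i + 1)) - 1)); ring
  exact Nat.lt_of_mul_lt_mul_left h2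

/-- the case `r = 2` from a bound for the `2`-part -/
theorem finC2 {m p f M B : ℕ} (h : Real (.C m) p f M) (hrp : 2 ≠ p)
    (hB : P 2 (num (.C m) (p ^ f)) ≤ B) (hb : 3 * B ^ 4 ≤ 16 * (p ^ f) ^ (2 * m ^ 2 + m)) :
    P 2 M ^ 4 < M := by
  apply core h Nat.prime_two hrp
  have hm : 2 ≤ m := h.ok.1
  have hq := h.q_ge
  have hodd : Odd (p ^ f) := Nat.not_even_iff_odd.1 fun he =>
    h.not_dvd_q Nat.prime_two hrp he.two_dvd
  set q := p ^ f
  rw [dd_C_odd hodd, P_two_two]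
  have h1 := prodC_gt hq (show 1 ≤ m by omega)
  have h2 : 3 * (P 2 (num (.C m) q) ^ 4 * 2) < 3 * (2 ^ 4 * (q ^ (m ^ 2) * num (.C m) q)) := by
    calc 3 * (P 2 (num (.C m) q) ^ 4 * 2) ≤ 3 * (B ^ 4 * 2) :=
          Nat.mul_le_mul_left 3 (Nat.mul_le_mul_right 2 (Nat.pow_le_pow_left hB 4))
      _ = 2 * (3 * B ^ 4) := by ring
      _ ≤ 2 * (16 * q ^ (2 * m ^ 2 + m)) := Nat.mul_le_mul_left 2 hb
      _ = 2 ^ 4 * (q ^ (m ^ 2) * (2 * q ^ (m * (m + 1)))) := by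
          have : 2 * m ^ 2 + m = m ^ 2 + m * (m + 1) := by ring
          rw [this, pow_add]; ring
      _ < 2 ^ 4 * (q ^ (m ^ 2) * (3 * ∏ i ∈ range m, (q ^ (2 * (i + 1)) - 1))) :=
          Nat.mul_lt_mul_of_pos_left (Nat.mul_lt_mul_of_pos_left h1 (pow_pos (by omega) _)) (by norm_num)
      _ = 3 * (2 ^ 4 * (q ^ (m ^ 2) * num (.C m) q)) := by
          show _ = 3 * (2 ^ 4 * (q ^ (m ^ 2) * ∏ i ∈ range m, (q ^ (2 * (i + 1)) - 1))); ring
  exact Nat.lt_of_mul_lt_mul_left h2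

theorem odd_q {X : Sh} {p f M : ℕ} (h : Real X p f M) (hrp : 2 ≠ p) : Odd (p ^ f) :=
  Nat.not_even_iff_odd.1 fun he => h.not_dvd_q Nat.prime_two hrp he.two_dvd

/-- parts of the symplectic products for `m = 2, 3, 4`, odd `r` -/
theorem PC2_odd {r q : ℕ} (hr : r.Prime) (hr2 : r ≠ 2) (hq : 2 ≤ q) (hrq : ¬ r ∣ q) :
    P r (num (.C 2) q) ≤ (q + 1) ^ 2 ∨ P r (num (.C 2) q) ≤ q ^ 2 + 1 := by
  obtain ⟨e, R, he, hR1, hR, hRe, hk⟩ := fac hr hr2 hq hrq
  show P r (∏ i ∈ range 2, (q ^ (2 * (i + 1)) - 1)) ≤ _ ∨ P r (∏ i ∈ range 2, (q ^ (2 * (i + 1)) - 1)) ≤ _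
  rw [P_prod_succ hq, P_prod_succ hq, P_prod_zero, hk _ (by norm_num), hk _ (by norm_num)]
  rcases Nat.lt_or_ge 2 e with h | h
  · rw [if_neg (fun hd => by have := Nat.le_of_dvd (by norm_num) hd; omega),
      if_neg (fun hd => by have := Nat.le_of_dvd (by norm_num) hd; omega)]
    right; nlinarith
  · have he2 : e = 1 ∨ e = 2 := by omega
    rcases he2 with rfl | rfl
    · left
      have h2 := (hRe rfl).1
      norm_num [P_one, P_two_odd hr hr2]
      nlinarith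
    · right
      norm_num [P_one]
      exact hR

theorem PC3_odd {r q : ℕ} (hr : r.Prime) (hr2 : r ≠ 2) (hq : 2 ≤ q) (hrq : ¬ r ∣ q) :
    P r (num (.C 3) q) ≤ 3 * (q + 1) ^ 3 ∨ P r (num (.C 3) q) ≤ q ^ 3 + 1 := by
  obtain ⟨e, R, he, hR1, hR, hRe, hk⟩ := fac hr hr2 hq hrq
  show P r (∏ i ∈ range 3, (q ^ (2 * (i + 1)) - 1)) ≤ _ ∨ P r (∏ i ∈ range 3, (q ^ (2 * (i + 1)) - 1)) ≤ _
  rw [P_prod_succ hq, P_prod_succ hq, P_prod_succ hq, P_prod_zero, hk _ (by norm_num),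
    hk _ (by norm_num), hk _ (by norm_num)]
  rcases Nat.lt_or_ge 3 e with h | h
  · rw [if_neg (fun hd => by have := Nat.le_of_dvd (by norm_num) hd; omega),
      if_neg (fun hd => by have := Nat.le_of_dvd (by norm_num) hd; omega),
      if_neg (fun hd => by have := Nat.le_of_dvd (by norm_num) hd; omega)]
    right; norm_num
  · have he2 : e = 1 ∨ e = 2 ∨ e = 3 := by omega
    rcases he2 with rfl | rfl | rfl
    · left
      have h2 := (hRe rfl).1
      have h3 := P_three_le (r := r)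
      norm_num [P_one, P_two_odd hr hr2]
      calc R * R * (R * P r 3) = P r 3 * R ^ 3 := by ring
        _ ≤ 3 * (q + 1) ^ 3 := Nat.mul_le_mul h3 (Nat.pow_le_pow_left h2 3)
    · right
      norm_num [P_one]
      have h5 : q ^ 2 ≤ q ^ 3 := Nat.pow_le_pow_right (by omega) (by norm_num)
      omega
    · right
      norm_num [P_one]
      exact hR

theorem PC4_odd {r q : ℕ} (hr : r.Prime) (hr2 : r ≠ 2) (hq : 2 ≤ q) (hrq : ¬ r ∣ q) :
    P r (num (.C 4) q) ≤ 3 * (q + 1) ^ 4 ∨ P r (num (.C 4) q) ≤ (q ^ 2 + 1) ^ 2 ∨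
      P r (num (.C 4) q) ≤ q ^ 4 + 1 := by
  obtain ⟨e, R, he, hR1, hR, hRe, hk⟩ := fac hr hr2 hq hrq
  show P r (∏ i ∈ range 4, (q ^ (2 * (i + 1)) - 1)) ≤ _ ∨ P r (∏ i ∈ range 4, (q ^ (2 * (i + 1)) - 1)) ≤ _ ∨
    P r (∏ i ∈ range 4, (q ^ (2 * (i + 1)) - 1)) ≤ _
  rw [P_prod_succ hq, P_prod_succ hq, P_prod_succ hq, P_prod_succ hq, P_prod_zero, hk _ (by norm_num),
    hk _ (by norm_num), hk _ (by norm_num), hk _ (by norm_num)]
  rcases Nat.lt_or_ge 4 e with h | h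
  · rw [if_neg (fun hd => by have := Nat.le_of_dvd (by norm_num) hd; omega),
      if_neg (fun hd => by have := Nat.le_of_dvd (by norm_num) hd; omega),
      if_neg (fun hd => by have := Nat.le_of_dvd (by norm_num) hd; omega),
      if_neg (fun hd => by have := Nat.le_of_dvd (by norm_num) hd; omega)]
    right; right; norm_num
  · have he2 : e = 1 ∨ e = 2 ∨ e = 3 ∨ e = 4 := by omega
    rcases he2 with rfl | rfl | rfl | rfl
    · left
      have h2 := (hRe rfl).1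
      have h3 := P_three_le (r := r)
      norm_num [P_one, P_two_odd hr hr2, P_four_odd hr hr2]
      calc R * R * (R * P r 3) * R = P r 3 * R ^ 4 := by ring
        _ ≤ 3 * (q + 1) ^ 4 := Nat.mul_le_mul h3 (Nat.pow_le_pow_left h2 4)
    · right; left
      norm_num [P_one, P_two_odd hr hr2]
      nlinarith
    · right; right
      norm_num [P_one]
      have h5 : q ^ 3 ≤ q ^ 4 := Nat.pow_le_pow_right (by omega) (by norm_num)
      omega
    · right; right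
      norm_num [P_one]
      exact hR

theorem P2_4 : P 2 4 = 4 := by
  have := P_pow_self (r := 2) (k := 2) (a := 1) Nat.prime_two (by norm_num)
  simpa using this

theorem P2_3 : P 2 3 = 1 := P_eq_one (by norm_num)

theorem PC2_two {q : ℕ} (hq : 3 ≤ q) (hodd : Odd q) : P 2 (num (.C 2) q) ≤ 8 * (q + 1) ^ 2 := by
  show P 2 (∏ i ∈ range 2, (q ^ (2 * (i + 1)) - 1)) ≤ _
  have h1 := P_two_sq_sub_one_le hq hodd
  rw [P_prod_succ (by omega), P_prod_succ (by omega), P_prod_zero, fac2 (by omega) hodd (by norm_num),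
    fac2 (by omega) hodd (by norm_num)]
  norm_num [P_one, P_two_two]
  nlinarith

theorem PC3_two {q : ℕ} (hq : 3 ≤ q) (hodd : Odd q) : P 2 (num (.C 3) q) ≤ 16 * (q + 1) ^ 3 := by
  show P 2 (∏ i ∈ range 3, (q ^ (2 * (i + 1)) - 1)) ≤ _
  have h1 := P_two_sq_sub_one_le hq hodd
  rw [P_prod_succ (by omega), P_prod_succ (by omega), P_prod_succ (by omega), P_prod_zero,
    fac2 (by omega) hodd (by norm_num), fac2 (by omega) hodd (by norm_num), fac2 (by omega) hodd (by norm_num)]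
  norm_num [P_one, P_two_two, P2_3]
  calc P 2 (q ^ 2 - 1) * (P 2 (q ^ 2 - 1) * 2) * P 2 (q ^ 2 - 1) = 2 * P 2 (q ^ 2 - 1) ^ 3 := by ring
    _ ≤ 2 * (2 * (q + 1)) ^ 3 := Nat.mul_le_mul_left 2 (Nat.pow_le_pow_left h1 3)
    _ = 16 * (q + 1) ^ 3 := by ring

theorem PC4_two {q : ℕ} (hq : 3 ≤ q) (hodd : Odd q) : P 2 (num (.C 4) q) ≤ 128 * (q + 1) ^ 4 := by
  show P 2 (∏ i ∈ range 4, (q ^ (2 * (i + 1)) - 1)) ≤ _
  have h1 := P_two_sq_sub_one_le hq hodd
  rw [P_prod_succ (by omega), P_prod_succ (by omega), P_prod_succ (by omega), P_prod_succ (by omega), P_prod_zero,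
    fac2 (by omega) hodd (by norm_num), fac2 (by omega) hodd (by norm_num), fac2 (by omega) hodd (by norm_num),
    fac2 (by omega) hodd (by norm_num)]
  norm_num [P_one, P_two_two, P2_3, P2_4]
  calc P 2 (q ^ 2 - 1) * (P 2 (q ^ 2 - 1) * 2) * P 2 (q ^ 2 - 1) * (P 2 (q ^ 2 - 1) * 4) =
        8 * P 2 (q ^ 2 - 1) ^ 4 := by ring
    _ ≤ 8 * (2 * (q + 1)) ^ 4 := Nat.mul_le_mul_left 8 (Nat.pow_le_pow_left h1 4)
    _ = 128 * (q + 1) ^ 4 := by ring

/-- from `a < b` in the form needed -/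
theorem quart_of_le {B c k q K Q : ℕ} (hq : Q ≤ q) (hQ : 1 ≤ Q) {a x : ℕ} (hB : B ≤ a * (x + 1) ^ k)
    (hx : x = q) (hkK : 4 * k ≤ K) (hnum : c * a ^ 4 * (Q + 1) ^ (4 * k) < Q ^ K) : c * B ^ 4 ≤ q ^ K := by
  subst hx
  have h1 := pw (x := x) (Q := Q) (c := c * a ^ 4) (d := 1) (k := 4 * k) (K := K) hq hQ hkK
    (by rw [one_mul]; exact hnum)
  calc c * B ^ 4 ≤ c * (a * (x + 1) ^ k) ^ 4 := Nat.mul_le_mul_left c (Nat.pow_le_pow_left hB 4)
    _ = c * a ^ 4 * (x + 1) ^ (4 * k) := by rw [mul_pow, ← pow_mul, mul_comm k 4]; ring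
    _ ≤ 1 * x ^ K := h1.le
    _ = x ^ K := one_mul _

/-- `C₃` -/
theorem quart_C3 {p f M r : ℕ} (h : Real (.C 3) p f M) (h2 : p ^ f ≠ 2) (h3 : p ^ f ≠ 3) (hr : r.Prime)
    (hrp : r ≠ p) : P r M ^ 4 < M := by
  have hq := h.q_ge
  have hrq := h.not_dvd_q hr hrp
  by_cases hr2 : r = 2
  · subst hr2
    have hodd := odd_q h hrp
    have hq5 : 5 ≤ p ^ f := by
      rcases hodd with ⟨k, hk⟩; omega
    refine finC2 h hrp (PC3_two (by omega) hodd) ?_
    generalize p ^ f = q at *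
    have h1 := pw (x := q) (Q := 5) (c := 3 * 16 ^ 4) (d := 16) (k := 12) (K := 21) hq5 (by norm_num) (by norm_num)
      (by norm_num)
    calc 3 * (16 * (q + 1) ^ 3) ^ 4 = 3 * 16 ^ 4 * (q + 1) ^ 12 := by ring
      _ ≤ 16 * q ^ 21 := h1.le
      _ = 16 * q ^ (2 * 3 ^ 2 + 3) := by norm_num
  · have hq3 : 3 ≤ p ^ f := by omega
    rcases PC3_odd hr hr2 hq hrq with h1 | h1
    · refine finC h hr hrp h1 ?_
      generalize p ^ f = q at *
      exact quart_of_le (a := 3) (k := 3) (x := q) hq3 (by norm_num) le_rfl rfl (by norm_num) (by norm_num)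
    · refine finC h hr hrp h1 ?_
      generalize p ^ f = q at *
      have hq27 : 27 ≤ q ^ 3 := by
        calc 27 = 3 ^ 3 := by norm_num
          _ ≤ q ^ 3 := Nat.pow_le_pow_left hq3 3
      have h5 : 3 * (q ^ 3 + 1) ^ 4 ≤ (q ^ 3) ^ 7 :=
        quart_of_le (a := 1) (k := 1) (x := q ^ 3) hq27 (by norm_num) (by ring_nf; exact le_rfl) rfl
          (by norm_num) (by norm_num)
      calc 3 * (q ^ 3 + 1) ^ 4 ≤ (q ^ 3) ^ 7 := h5
        _ = q ^ (2 * 3 ^ 2 + 3) := by rw [← pow_mul]; norm_num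

/-- `C₄` -/
theorem quart_C4 {p f M r : ℕ} (h : Real (.C 4) p f M) (h3 : p ^ f ≠ 3) (hr : r.Prime)
    (hrp : r ≠ p) : P r M ^ 4 < M := by
  have hq := h.q_ge
  have hrq := h.not_dvd_q hr hrp
  by_cases hr2 : r = 2
  · subst hr2
    have hodd := odd_q h hrp
    have hq5 : 5 ≤ p ^ f := by
      rcases hodd with ⟨k, hk⟩; omega
    refine finC2 h hrp (PC4_two (by omega) hodd) ?_
    generalize p ^ f = q at *
    have h1 := pw (x := q) (Q := 5) (c := 3 * 128 ^ 4) (d := 16) (k := 16) (K := 36) hq5 (by norm_num) (by norm_num)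
      (by norm_num)
    calc 3 * (128 * (q + 1) ^ 4) ^ 4 = 3 * 128 ^ 4 * (q + 1) ^ 16 := by ring
      _ ≤ 16 * q ^ 36 := h1.le
      _ = 16 * q ^ (2 * 4 ^ 2 + 4) := by norm_num
  · rcases PC4_odd hr hr2 hq hrq with h1 | h1 | h1
    · refine finC h hr hrp h1 ?_
      generalize p ^ f = q at *
      exact quart_of_le (a := 3) (k := 4) (x := q) hq (by norm_num) le_rfl rfl (by norm_num) (by norm_num)
    · refine finC h hr hrp h1 ?_
      generalize p ^ f = q at *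
      have hq4 : 4 ≤ q ^ 2 := by nlinarith
      have h5 : 3 * ((q ^ 2 + 1) ^ 2) ^ 4 ≤ (q ^ 2) ^ 18 :=
        quart_of_le (a := 1) (k := 2) (x := q ^ 2) hq4 (by norm_num) (by rw [one_mul]) rfl
          (by norm_num) (by norm_num)
      calc 3 * ((q ^ 2 + 1) ^ 2) ^ 4 ≤ (q ^ 2) ^ 18 := h5
        _ = q ^ (2 * 4 ^ 2 + 4) := by rw [← pow_mul]; norm_num
    · refine finC h hr hrp h1 ?_
      generalize p ^ f = q at *
      have hq16 : 16 ≤ q ^ 4 := by
        calc 16 = 2 ^ 4 := by norm_num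
          _ ≤ q ^ 4 := Nat.pow_le_pow_left hq 4
      have h5 : 3 * (q ^ 4 + 1) ^ 4 ≤ (q ^ 4) ^ 9 :=
        quart_of_le (a := 1) (k := 1) (x := q ^ 4) hq16 (by norm_num) (by rw [one_mul, pow_one]) rfl
          (by norm_num) (by norm_num)
      calc 3 * (q ^ 4 + 1) ^ 4 ≤ (q ^ 4) ^ 9 := h5
        _ = q ^ (2 * 4 ^ 2 + 4) := by rw [← pow_mul]; norm_num

/-- the `r`-part of the symplectic product for `r ∣ q² - 1`, `r` odd -/
theorem PC_one {r q : ℕ} (hr : r.Prime) (hr2 : r ≠ 2) (hq : 2 ≤ q) (hrq : ¬ r ∣ q) (hd : r ∣ q ^ 2 - 1)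
    {m : ℕ} (hm : 1 ≤ m) :
    (P r (∏ i ∈ range m, (q ^ (2 * (i + 1)) - 1))) ^ 2 ≤ ((q + 1) ^ 2) ^ m * 3 ^ (m - 1) := by
  have hx := abs_sq_ge hq
  have hrx := not_dvd_sq hr hrq
  have he : orderOf (((q : ℤ) ^ 2 : ℤ) : ZMod r) = 1 := by
    have h1 : (r : ℤ) ∣ ((q : ℤ) ^ 2) ^ 1 - 1 := by
      apply Int.natCast_dvd.2
      rw [natAbs_sq hq]; exact hd
    exact Nat.dvd_one.1 ((dvd_pow_sub_one_iff 1).1 h1)
  have h2 := PW_odd_sq hr hr2 hx hrx m ((q + 1) ^ 2) (by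
    rw [he, natAbs_sq hq]
    have := P_sq_sub_one_le (j := 1) hr hr2 hq le_rfl
    rw [pow_one] at this
    exact Nat.pow_le_pow_left this 2) (by rw [he, Nat.div_one]; omega)
  rwa [he, Nat.div_one, W_sq hq] at h2

/-- `q = 2`, `r = 3` -/
theorem PC_23 {m : ℕ} (hm : 1 ≤ m) : (P 3 (∏ i ∈ range m, (2 ^ (2 * (i + 1)) - 1))) ^ 4 * 9 ≤ 3 ^ (6 * m) := by
  have h := PC_one (r := 3) (q := 2) Nat.prime_three (by norm_num) (by norm_num) (by norm_num) (by norm_num) hm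
  have h1 : (P 3 (∏ i ∈ range m, (2 ^ (2 * (i + 1)) - 1))) ^ 2 * 3 ≤ 3 ^ (3 * m) := by
    obtain ⟨k, rfl⟩ := Nat.exists_eq_add_of_le' hm
    rw [Nat.add_sub_cancel] at h
    calc (P 3 (∏ i ∈ range (k + 1), (2 ^ (2 * (i + 1)) - 1))) ^ 2 * 3 ≤ ((2 + 1) ^ 2) ^ (k + 1) * 3 ^ k * 3 :=
          Nat.mul_le_mul_right 3 h
      _ = 3 ^ (3 * (k + 1)) := by
        have : (2 + 1 : ℕ) = 3 := rfl
        rw [this, mul_assoc, ← pow_succ, ← pow_mul, ← pow_add]; congr 1; ring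
  calc (P 3 (∏ i ∈ range m, (2 ^ (2 * (i + 1)) - 1))) ^ 4 * 9 =
        ((P 3 (∏ i ∈ range m, (2 ^ (2 * (i + 1)) - 1))) ^ 2 * 3) ^ 2 := by ring
    _ ≤ (3 ^ (3 * m)) ^ 2 := Nat.pow_le_pow_left h1 2
    _ = 3 ^ (6 * m) := by rw [← pow_mul]; congr 1; ring

/-- `q = 3`, `r = 2` -/
theorem PC_32 {m : ℕ} (hm : 1 ≤ m) : 16 * (P 2 (∏ i ∈ range m, (3 ^ (2 * (i + 1)) - 1))) ^ 4 ≤ 2 ^ (16 * m) := by
  have h := PC_two (q := 3) (by norm_num) (by decide) hm
  calc 16 * (P 2 (∏ i ∈ range m, (3 ^ (2 * (i + 1)) - 1))) ^ 4 =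
        (2 * P 2 (∏ i ∈ range m, (3 ^ (2 * (i + 1)) - 1))) ^ 4 := by ring
    _ ≤ ((4 * (3 + 1)) ^ m) ^ 4 := Nat.pow_le_pow_left h 4
    _ = 2 ^ (16 * m) := by
      have : (4 * (3 + 1) : ℕ) = 2 ^ 4 := by norm_num
      rw [this, ← pow_mul, ← pow_mul]; congr 1; ring

theorem three_six_le (m : ℕ) : 3 ^ (6 * m) ≤ 2 ^ (10 * m) := by
  rw [pow_mul, pow_mul]; exact Nat.pow_le_pow_left (by norm_num) m

theorem two_sixteen_le (m : ℕ) : 2 ^ (16 * m) ≤ 3 ^ (11 * m) := by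
  rw [pow_mul, pow_mul]; exact Nat.pow_le_pow_left (by norm_num) m

/-- `C_m`, `m ≥ 5` -/
theorem quart_C {m p f M r : ℕ} (h : Real (.C m) p f M) (hm : 5 ≤ m) (hr : r.Prime)
    (hrp : r ≠ p) : P r M ^ 4 < M := by
  have hq := h.q_ge
  have hrq := h.not_dvd_q hr hrp
  by_cases h23 : p ^ f = 2 ∧ r = 3
  · obtain ⟨hq2, rfl⟩ := h23
    refine finC h hr hrp (B := P 3 (∏ i ∈ range m, (2 ^ (2 * (i + 1)) - 1))) ?_ ?_
    · rw [hq2]; exact le_rfl
    · rw [hq2]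
      have h1 := PC_23 (m := m) (by omega)
      have h2 := three_six_le m
      have h3 : 2 ^ (10 * m) ≤ 2 ^ (2 * m ^ 2 + m) := Nat.pow_le_pow_right (by norm_num) (by nlinarith)
      omega
  by_cases h32 : p ^ f = 3 ∧ r = 2
  · obtain ⟨hq3, rfl⟩ := h32
    refine finC2 h hrp (B := P 2 (∏ i ∈ range m, (3 ^ (2 * (i + 1)) - 1))) ?_ ?_
    · rw [hq3]; exact le_rfl
    · rw [hq3]
      have h1 := PC_32 (m := m) (by omega)
      have h2 := two_sixteen_le m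
      have h3 : 3 ^ (11 * m) ≤ 3 ^ (2 * m ^ 2 + m) := Nat.pow_le_pow_right (by norm_num) (by nlinarith)
      omega
  have h1 := Dom4.PC_le2 hr hq hrq h23 h32 m
  refine finC h hr hrp h1 ?_
  generalize p ^ f = q at *
  have h3 : 3 ≤ q ^ 2 := by nlinarith
  calc 3 * (q ^ (2 * m)) ^ 4 ≤ q ^ 2 * (q ^ (2 * m)) ^ 4 := Nat.mul_le_mul_right _ h3
    _ = q ^ (8 * m + 2) := by rw [← pow_mul, ← pow_add]; congr 1; ring
    _ ≤ q ^ (2 * m ^ 2 + m) := Nat.pow_le_pow_right (by omega) (by nlinarith)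

theorem not_pp {p f a b : ℕ} (hp : p.Prime) (ha : a.Prime) (hb : b.Prime) (hab : a ≠ b) (h : a * b ∣ p ^ f) :
    False := by
  have h1 := (Nat.prime_dvd_prime_iff_eq ha hp).1 (ha.dvd_of_dvd_pow ((dvd_mul_right a b).trans h))
  have h2 := (Nat.prime_dvd_prime_iff_eq hb hp).1 (hb.dvd_of_dvd_pow ((dvd_mul_left b a).trans h))
  exact hab (h1.trans h2.symm)

/-- explicit instance, `r = 2` -/
theorem explicit2 {X : Sh} {p f M : ℕ} (h : Real X p f M) (hrp : 2 ≠ p) {q k c d : ℕ} (hq : p ^ f = q)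
    (hn : num X q = 2 ^ k * c) (hc : ¬ 2 ∣ c) (hd : dd X q = d)
    (hb : (2 ^ k) ^ 4 * d < P 2 d ^ 4 * (q ^ NN X * (2 ^ k * c))) : P 2 M ^ 4 < M := by
  apply core h Nat.prime_two hrp
  rw [hq, hn, hd, P_pow_self Nat.prime_two hc]
  exact hb

/-- `C₂` -/
theorem quart_C2 {p f M r : ℕ} (h : Real (.C 2) p f M) (h3 : p ^ f ≠ 3) (h5 : p ^ f ≠ 5) (h7 : p ^ f ≠ 7)
    (h9 : p ^ f ≠ 9) (h17 : p ^ f ≠ 17) (hr : r.Prime) (hrp : r ≠ p) : P r M ^ 4 < M := by
  have hq := h.q_ge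
  have hrq := h.not_dvd_q hr hrp
  have hq4 : 4 ≤ p ^ f := by
    have : 3 ≤ p ^ f := h.ok.2 rfl
    omega
  by_cases hr2 : r = 2
  · subst hr2
    have hodd := odd_q h hrp
    rcases Nat.lt_or_ge (p ^ f) 32 with h32 | h32
    · have hp := h.hp
      have hcases : p ^ f = 11 ∨ p ^ f = 13 ∨ p ^ f = 19 ∨ p ^ f = 23 ∨ p ^ f = 25 ∨ p ^ f = 27 ∨ p ^ f = 29 ∨
          p ^ f = 31 := by
        have h15 : p ^ f ≠ 15 := fun h' =>
          not_pp hp (a := 3) (b := 5) (by norm_num) (by norm_num) (by norm_num) ⟨1, by rw [h']⟩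
        have h21 : p ^ f ≠ 21 := fun h' =>
          not_pp hp (a := 3) (b := 7) (by norm_num) (by norm_num) (by norm_num) ⟨1, by rw [h']⟩
        rcases hodd with ⟨k, hk⟩
        omega
      rcases hcases with hx | hx | hx | hx | hx | hx | hx | hx
      · exact explicit2 h hrp hx (k := 7) (c := 13725) (d := 2) (by norm_num [num, Finset.prod_range_succ])
          (by norm_num) (dd_C_odd (by decide)) (by rw [P_two_two]; norm_num [NN])
      · exact explicit2 h hrp hx (k := 7) (c := 37485) (d := 2) (by norm_num [num, Finset.prod_range_succ])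
          (by norm_num) (dd_C_odd (by decide)) (by rw [P_two_two]; norm_num [NN])
      · exact explicit2 h hrp hx (k := 7) (c := 366525) (d := 2) (by norm_num [num, Finset.prod_range_succ])
          (by norm_num) (dd_C_odd (by decide)) (by rw [P_two_two]; norm_num [NN])
      · exact explicit2 h hrp hx (k := 9) (c := 288585) (d := 2) (by norm_num [num, Finset.prod_range_succ])
          (by norm_num) (dd_C_odd (by decide)) (by rw [P_two_two]; norm_num [NN])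
      · exact explicit2 h hrp hx (k := 9) (c := 476073) (d := 2) (by norm_num [num, Finset.prod_range_succ])
          (by norm_num) (dd_C_odd (by decide)) (by rw [P_two_two]; norm_num [NN])
      · exact explicit2 h hrp hx (k := 7) (c := 3022565) (d := 2) (by norm_num [num, Finset.prod_range_succ])
          (by norm_num) (dd_C_odd (by decide)) (by rw [P_two_two]; norm_num [NN])
      · exact explicit2 h hrp hx (k := 7) (c := 4641525) (d := 2) (by norm_num [num, Finset.prod_range_succ])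
          (by norm_num) (dd_C_odd (by decide)) (by rw [P_two_two]; norm_num [NN])
      · exact explicit2 h hrp hx (k := 13) (c := 108225) (d := 2) (by norm_num [num, Finset.prod_range_succ])
          (by norm_num) (dd_C_odd (by decide)) (by rw [P_two_two]; norm_num [NN])
    · refine finC2 h hrp (PC2_two (by omega) hodd) ?_
      generalize p ^ f = q at *
      have h1 := pw (x := q) (Q := 32) (c := 3 * 8 ^ 4) (d := 16) (k := 8) (K := 10) h32 (by norm_num) (by norm_num)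
        (by norm_num)
      calc 3 * (8 * (q + 1) ^ 2) ^ 4 = 3 * 8 ^ 4 * (q + 1) ^ 8 := by ring
        _ ≤ 16 * q ^ 10 := h1.le
        _ = 16 * q ^ (2 * 2 ^ 2 + 2) := by norm_num
  · rcases Nat.lt_or_ge (p ^ f) 5 with h5' | h5'
    · have hx : p ^ f = 4 := by omega
      apply core' h hr hrp
      have hP : P r (num (.C 2) (p ^ f)) ≤ 25 := by
        have := PC2_odd hr hr2 hq hrq
        rw [hx] at this ⊢
        omega
      have hd : dd (.C 2) (p ^ f) = 1 := by rw [hx]; rfl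
      have hn : num (.C 2) (p ^ f) = 3825 := by rw [hx]; norm_num [num, Finset.prod_range_succ]
      rw [hd, mul_one]
      calc P r (num (.C 2) (p ^ f)) ^ 4 ≤ 25 ^ 4 := Nat.pow_le_pow_left hP 4
        _ < 4 ^ 4 * 3825 := by norm_num
        _ = (p ^ f) ^ NN (.C 2) * num (.C 2) (p ^ f) := by rw [hn, hx]; rfl
    · rcases PC2_odd hr hr2 hq hrq with h1 | h1
      · refine finC h hr hrp h1 ?_
        generalize p ^ f = q at *
        exact quart_of_le (a := 1) (k := 2) (x := q) h5' (by norm_num) (by rw [one_mul]) rfl (by norm_num) (by norm_num)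
      · refine finC h hr hrp h1 ?_
        generalize p ^ f = q at *
        have hq25 : 25 ≤ q ^ 2 := by nlinarith
        have h5 : 3 * (q ^ 2 + 1) ^ 4 ≤ (q ^ 2) ^ 5 :=
          quart_of_le (a := 1) (k := 1) (x := q ^ 2) hq25 (by norm_num) (by rw [one_mul, pow_one]) rfl
            (by norm_num) (by norm_num)
        calc 3 * (q ^ 2 + 1) ^ 4 ≤ (q ^ 2) ^ 5 := h5
          _ = q ^ (2 * 2 ^ 2 + 2) := by rw [← pow_mul]; norm_num

end Cfsg.Agent.H719.Quart
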