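import Mathlib
import Cfsg.Agent.H719.Quart.TypeD

/-!
# Fourth roots: the unitary groups
-/

set_option autoImplicit false

namespace Cfsg.Agent.H719.Quart

open Finset Cfsg.Agent.H902.Lte Cfsg.Agent.H902.Art

/-! ### explicit orders -/

def pr (l : List (ℕ × ℕ)) : ℕ := (l.map fun x => x.1 ^ x.2).prod

theorem pr_cons (x : ℕ × ℕ) (l : List (ℕ × ℕ)) : pr (x :: l) = x.1 ^ x.2 * pr l := by
  simp [pr]

theorem pr_ne {l : List (ℕ × ℕ)} (hp : ∀ x ∈ l, x.1.Prime) : pr l ≠ 0 := by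
  induction l with
  | nil => simp [pr]
  | cons x l ih =>
    rw [pr_cons]
    exact Nat.mul_ne_zero (pow_ne_zero _ (hp x (by simp)).ne_zero) (ih fun y hy => hp y (by simp [hy]))

theorem P_pr {r : ℕ} {l : List (ℕ × ℕ)} (hr : r.Prime) (hp : ∀ x ∈ l, x.1.Prime) :
    P r (pr l) = pr (l.filter fun x => x.1 = r) := by
  induction l with
  | nil => simp [pr, P]
  | cons x l ih =>
    have hx := hp x (by simp)
    rw [pr_cons, P_mul (pow_ne_zero _ hx.ne_zero) (pr_ne fun y hy => hp y (by simp [hy])),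
      ih fun y hy => hp y (by simp [hy])]
    by_cases h : x.1 = r
    · rw [List.filter_cons_of_pos (by simpa using h), pr_cons]
      congr 1
      rw [h]
      have := P_pow_self (r := r) (k := x.2) (a := 1) hr hr.not_dvd_one
      rwa [mul_one] at this
    · rw [List.filter_cons_of_neg (by simpa using h), P_eq_one, one_mul]
      intro hd
      exact h ((Nat.prime_dvd_prime_iff_eq hr hx).1 (hr.dvd_of_dvd_pow hd)).symm

/-- an explicit order -/
theorem list_check {N p : ℕ} (l : List (ℕ × ℕ)) (hN : pr l = N) (hp : ∀ x ∈ l, x.1.Prime)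
    (hc : ∀ x ∈ l, x.1 ≠ p → pr (l.filter fun y => y.1 = x.1) ^ 4 < N) (h1 : 1 < N) {r : ℕ}
    (hr : r.Prime) (hrp : r ≠ p) : P r N ^ 4 < N := by
  have h2 := P_pr hr hp
  rw [hN] at h2
  by_cases h : ∃ x ∈ l, x.1 = r
  · obtain ⟨x, hx, hxr⟩ := h
    have h3 := hc x hx (by rw [hxr]; exact hrp)
    rw [h2]
    rwa [hxr] at h3
  · have h3 : l.filter (fun x => x.1 = r) = [] := by
      rw [List.filter_eq_nil_iff]
      intro x hx hxr
      exact h ⟨x, hx, by simpa using hxr⟩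
    rw [h2, h3]
    simpa [pr] using h1

/-- an explicit group -/
theorem list_real {X : Sh} {p f M r : ℕ} (h : Real X p f M) (hr : r.Prime) (hrp : r ≠ p) {q : ℕ} (hq : p ^ f = q)
    (d : ℕ) (hd : dd X q = d) (l : List (ℕ × ℕ)) (hN : d * pr l = q ^ NN X * num X q)
    (hp : ∀ x ∈ l, x.1.Prime) (hc : ∀ x ∈ l, ¬ x.1 ∣ q → pr (l.filter fun y => y.1 = x.1) ^ 4 < pr l)
    (h1 : 1 < pr l) : P r M ^ 4 < M := by
  have hdpos : 0 < d := by
    have := h.dd_ne
    rw [hq, hd] at this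
    omega
  have hM : M = pr l := by
    have h2 := h.eq
    rw [hq, hd, ← hN] at h2
    exact Nat.eq_of_mul_eq_mul_left hdpos h2
  rw [hM]
  refine list_check (p := p) l rfl hp (fun x hx hxp => hc x hx ?_) h1 hr hrp
  rw [← hq]
  intro hd
  exact hxp ((Nat.prime_dvd_prime_iff_eq (hp x hx) h.hp).1 ((hp x hx).dvd_of_dvd_pow hd))

/-! ### odd primes -/

theorem PU_split {r q n : ℕ} (hr : r.Prime) (hr2 : r ≠ 2) (hq : 2 ≤ q) (hrq : ¬ r ∣ q) (hn : 2 ≤ n) :
    (r ∣ q + 1 ∧ P r (num (.U n) q) = (P r (q + 1)) ^ (n - 1) * r ^ padicValNat r n.factorial) ∨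
      ∃ e R, 2 ≤ e ∧ 1 ≤ R ∧ R ≤ q ^ e ∧ (Even e → R ≤ q ^ (e / 2) + 1) ∧
        P r (num (.U n) q) = R ^ (n / e) * r ^ padicValNat r (n / e).factorial := by
  set x : ℤ := -(q : ℤ) with hx
  have hN : num (.U n) q * (x - 1).natAbs = (W x n).natAbs := by
    rw [hx, ← num_U hq (by omega)]
    congr 1
    omega
  have hy : (x - 1).natAbs = q + 1 := by omega
  have hxa : |x| = q := abs_eq_cases (Or.inr hx)
  have hx2 : 2 ≤ |x| := by rw [hxa]; exact_mod_cast hq
  have hrx : ¬ (r : ℤ) ∣ x := by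
    intro h; exact not_dvd_cast hrq ((dvd_neg).1 (hx ▸ h))
  have hW0 : (W x n).natAbs ≠ 0 := Int.natAbs_ne_zero.2 (W_ne_zero hx2 n)
  have hN0 : num (.U n) q ≠ 0 := by
    intro h0; rw [h0, zero_mul] at hN; exact hW0 hN.symm
  have hP : P r (num (.U n) q) * P r (q + 1) = P r (W x n).natAbs := by
    rw [← P_mul hN0 (by omega), ← hy, hN]
  have he := order_pos (q := q) hr hrx
  have hodd := PW_odd hr hr2 hx2 hrx n
  set e := orderOf (x : ZMod r) with hedef
  by_cases h : r ∣ q + 1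
  · left
    refine ⟨h, ?_⟩
    have h1 : (r : ℤ) ∣ x ^ 1 - 1 := by rw [pow_one]; exact Int.natCast_dvd.2 (by rw [hy]; exact h)
    have h2 : e ∣ 1 := (dvd_pow_sub_one_iff 1).1 h1
    have h3 : e = 1 := Nat.dvd_one.1 h2
    rw [h3, Nat.div_one, pow_one, hy] at hodd
    rw [hodd] at hP
    have h5 : (P r (q + 1)) ^ n = (P r (q + 1)) ^ (n - 1) * P r (q + 1) := by
      rw [← pow_succ]; congr 1; omega
    rw [h5] at hP
    apply Nat.eq_of_mul_eq_mul_right (P_pos (r := r) (a := q + 1) hr)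
    rw [hP]; ring
  · right
    rw [P_eq_one h, mul_one] at hP
    have he2 : 2 ≤ e := by
      by_contra hcon
      have h3 : e = 1 := by omega
      have h1 : (r : ℤ) ∣ x ^ 1 - 1 := (dvd_pow_sub_one_iff 1).2 (by rw [← hedef, h3])
      rw [pow_one] at h1
      exact h (hy ▸ Int.natCast_dvd.1 h1)
    have hne : (x ^ e - 1).natAbs ≠ 0 := Int.natAbs_ne_zero.2 (pow_sub_one_ne_zero hx2 (by omega))
    have h6 : (x ^ e).natAbs = q ^ e := by
      rw [Int.natAbs_pow]
      congr 1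
      omega
    refine ⟨e, P r (x ^ e - 1).natAbs, he2, P_pos hr, ?_, ?_, hP.trans hodd⟩
    · have h1 : (x - 1).natAbs ∣ (x ^ e - 1).natAbs := by
        rw [Int.natAbs_dvd_natAbs]
        have := sub_dvd_pow_sub_pow x 1 e
        rwa [one_pow] at this
      rw [hy] at h1
      have hcop : Nat.Coprime (P r (x ^ e - 1).natAbs) (q + 1) :=
        Nat.Coprime.pow_left _ ((Nat.Prime.coprime_iff_not_dvd hr).2 h)
      have h2 : P r (x ^ e - 1).natAbs * (q + 1) ∣ (x ^ e - 1).natAbs :=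
        Nat.Coprime.mul_dvd_of_dvd_of_dvd hcop (P_dvd _ _) h1
      have h3 := Nat.le_of_dvd (Nat.pos_of_ne_zero hne) h2
      have h4 : (x ^ e - 1).natAbs ≤ q ^ e + 1 := by
        have h5 := Int.natAbs_sub_le (x ^ e) 1
        rw [h6] at h5
        simpa using h5
      have h9 : P r (x ^ e - 1).natAbs * 2 ≤ P r (x ^ e - 1).natAbs * (q + 1) :=
        Nat.mul_le_mul_left _ (by omega)
      have h10 : 1 ≤ q ^ e := Nat.one_le_pow _ _ (by omega)
      omega
    · intro hev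
      obtain ⟨j, hj⟩ := hev
      have h7 : (x ^ e - 1).natAbs = q ^ (2 * j) - 1 := by
        have h8 : x ^ e - 1 = ((q ^ (2 * j) - 1 : ℕ) : ℤ) := by
          rw [Nat.cast_sub (Nat.one_le_pow _ _ (by omega)), hx, (show Even e from ⟨j, hj⟩).neg_pow,
            show e = 2 * j by omega]
          push_cast; rfl
        rw [h8, Int.natAbs_natCast]
      rw [h7, show e / 2 = j by omega]
      exact P_sq_sub_one_le hr hr2 hq (by omega)

/-- `r`-parts of small factorials, odd `r` -/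
theorem facP {r : ℕ} (hr : r.Prime) (n : ℕ) : r ^ padicValNat r n.factorial = P r n.factorial := by
  rw [P, Nat.factorization_def _ hr]

theorem fac1 {r : ℕ} (hr : r.Prime) : r ^ padicValNat r (Nat.factorial 1) = 1 := by
  rw [facP hr]; exact P_one

theorem fac0 {r : ℕ} (hr : r.Prime) : r ^ padicValNat r (Nat.factorial 0) = 1 := by
  rw [facP hr]; exact P_one

theorem fac_two {r : ℕ} (hr : r.Prime) (hr2 : r ≠ 2) : r ^ padicValNat r (Nat.factorial 2) = 1 := by
  rw [facP hr]; exact P_two_odd hr hr2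

theorem fac_four {r : ℕ} (hr : r.Prime) (hr2 : r ≠ 2) : r ^ padicValNat r (Nat.factorial 4) ≤ 3 := by
  rw [facP hr]
  have h : Nat.factorial 4 = 2 * (4 * 3) := rfl
  rw [h, P_mul (by norm_num) (by norm_num), P_mul (by norm_num) (by norm_num), P_two_odd hr hr2,
    P_four_odd hr hr2, one_mul, one_mul]
  exact P_three_le

theorem fac_five {r : ℕ} (hr : r.Prime) (hr2 : r ≠ 2) : r ^ padicValNat r (Nat.factorial 5) ≤ 5 := by
  rw [facP hr]
  have h : Nat.factorial 5 = 2 * (4 * (3 * 5)) := rfl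
  rw [h, P_mul (by norm_num) (by norm_num), P_mul (by norm_num) (by norm_num), P_two_odd hr hr2,
    P_four_odd hr hr2, one_mul, one_mul, P_mul (by norm_num) (by norm_num)]
  by_cases h3 : r = 3
  · subst h3
    rw [P_eq_one (a := 5) (by norm_num), mul_one]
    exact P_three_le.trans (by norm_num)
  · rw [P_eq_one (a := 3) (fun h => h3 ((Nat.prime_dvd_prime_iff_eq hr Nat.prime_three).1 h)), one_mul]
    exact P_le (by norm_num)

/-! ### `n = 4` -/

theorem dd_U_le {q n : ℕ} (hn : 0 < n) : dd (.U n) q ≤ n := Nat.gcd_le_left _ hn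

theorem dd_U_le' {q n : ℕ} : dd (.U n) q ≤ q + 1 := Nat.gcd_le_right _ (by omega)

/-- reduction -/
theorem finU {n p f M r B D K : ℕ} (h : Real (.U n) p f M) (hr : r.Prime) (hrp : r ≠ p)
    (hB : P r (num (.U n) (p ^ f)) ≤ B) (hD : dd (.U n) (p ^ f) ≤ D) (hK : K + 1 = n ^ 2)
    (hb : 2 * D * B ^ 4 ≤ (p ^ f) ^ K) : P r M ^ 4 < M := by
  apply core' h hr hrp
  have hn : 3 ≤ n := h.ok.1
  have hq := h.q_ge
  set q := p ^ f
  have h1 := numU_gt hq (show 2 ≤ n by omega)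
  have hexp : K = n * (n - 1) / 2 + (n * (n + 1) / 2 - 1) := by
    obtain ⟨m, rfl⟩ := Nat.exists_eq_add_of_le' (show 1 ≤ n by omega)
    rw [Nat.add_sub_cancel]
    have h2 : (m + 1) * (m + 1 + 1) / 2 = (m + 1) * m / 2 + (m + 1) := by
      have : (m + 1) * (m + 1 + 1) = (m + 1) * m + 2 * (m + 1) := by ring
      rw [this, Nat.add_mul_div_left _ _ (by norm_num)]
    have h3 : (m + 1) * m / 2 * 2 = (m + 1) * m := two_mul_half (m + 1)
    have h4 : (m + 1) ^ 2 = (m + 1) * m + (m + 1) := by ring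
    omega
  have h2 : 2 * (P r (num (.U n) q) ^ 4 * dd (.U n) q) < 2 * (q ^ NN (.U n) * num (.U n) q) := by
    calc 2 * (P r (num (.U n) q) ^ 4 * dd (.U n) q) ≤ 2 * (B ^ 4 * D) :=
          Nat.mul_le_mul_left 2 (Nat.mul_le_mul (Nat.pow_le_pow_left hB 4) hD)
      _ = 2 * D * B ^ 4 := by ring
      _ ≤ q ^ K := hb
      _ = q ^ (n * (n - 1) / 2) * q ^ (n * (n + 1) / 2 - 1) := by rw [← pow_add, hexp]
      _ < q ^ (n * (n - 1) / 2) * (2 * num (.U n) q) := Nat.mul_lt_mul_of_pos_left h1 (pow_pos (by omega) _)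
      _ = 2 * (q ^ NN (.U n) * num (.U n) q) := by
          show _ = 2 * (q ^ (n * (n - 1) / 2) * num (.U n) q); ring
  exact Nat.lt_of_mul_lt_mul_left h2

/-- the `2`-part: the two constituents -/
theorem A_le {q : ℕ} (hq : 3 ≤ q) (hodd : Odd q) : P 2 (q + 1) * P 2 (q ^ 2 - 1) ≤ 2 * (q + 1) ^ 2 := by
  rcases P_two_mul hq hodd (y := q + 1) (z := q - 1) (Or.inr ⟨rfl, rfl⟩) with h1 | h1
  · refine h1.trans ?_
    have : q - 1 ≤ q + 1 := by omega
    nlinarith
  · exact h1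

theorem PU_two {q n : ℕ} (hq : 3 ≤ q) (hodd : Odd q) (hn : 3 ≤ n) :
    P 2 (num (.U n) q) = (P 2 (q + 1) * P 2 (q ^ 2 - 1)) ^ ((n + 1) / 2 - 1) *
      (P 2 (q ^ 2 - 1)) ^ (n / 2 + 1 - (n + 1) / 2) * 2 ^ padicValNat 2 (n / 2).factorial := by
  have hN : num (.U n) q * (-(q : ℤ) - 1).natAbs = (W (-(q : ℤ)) n).natAbs := by
    rw [← num_U (by omega) (by omega)]
    congr 1
    omega
  have h := PLU_two hq hodd hn (Or.inr rfl) hN
  have hy : (-(q : ℤ) - 1).natAbs = q + 1 := by omega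
  rwa [hy] at h

theorem quart_U4_aux {p f M r : ℕ} (h : Real (.U 4) p f M) (h14 : 14 ≤ p ^ f) (hr : r.Prime) (hrp : r ≠ p) :
    P r M ^ 4 < M := by
  have hq := h.q_ge
  have hrq := h.not_dvd_q hr hrp
  by_cases hr2 : r = 2
  · subst hr2
    have hodd := odd_q h hrp
    -- here the `2`-part of `dd` is needed
    apply core h hr hrp
    have h1 := PU_two (n := 4) (by omega) hodd (by norm_num)
    have h2 : 2 ^ padicValNat 2 (Nat.factorial (4 / 2)) = 2 := by
      rw [facP Nat.prime_two]; exact P_two_two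
    rw [h2] at h1
    have hA := A_le (by omega) hodd
    have hB := P_two_sq_sub_one_le (by omega) hodd
    have hP : P 2 (num (.U 4) (p ^ f)) ≤ 8 * (p ^ f + 1) ^ 3 := by
      rw [h1]
      calc (P 2 (p ^ f + 1) * P 2 ((p ^ f) ^ 2 - 1)) ^ ((4 + 1) / 2 - 1) *
            P 2 ((p ^ f) ^ 2 - 1) ^ (4 / 2 + 1 - (4 + 1) / 2) * 2 =
            (P 2 (p ^ f + 1) * P 2 ((p ^ f) ^ 2 - 1)) * P 2 ((p ^ f) ^ 2 - 1) * 2 := by norm_num
        _ ≤ (2 * (p ^ f + 1) ^ 2) * (2 * (p ^ f + 1)) * 2 :=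
            Nat.mul_le_mul_right 2 (Nat.mul_le_mul hA hB)
        _ = 8 * (p ^ f + 1) ^ 3 := by ring
    have hd : dd (.U 4) (p ^ f) = 2 ∨ dd (.U 4) (p ^ f) = 4 := by
      show Nat.gcd 4 (p ^ f + 1) = 2 ∨ Nat.gcd 4 (p ^ f + 1) = 4
      have h3 : 2 ∣ Nat.gcd 4 (p ^ f + 1) := by
        apply Nat.dvd_gcd (by norm_num)
        rcases hodd with ⟨k, hk⟩
        exact ⟨k + 1, by omega⟩
      have h4 : Nat.gcd 4 (p ^ f + 1) ∣ 4 := Nat.gcd_dvd_left _ _
      have h5 := Nat.le_of_dvd (by norm_num) h4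
      have h6 : Nat.gcd 4 (p ^ f + 1) ≠ 0 := by
        intro h; rw [h] at h4; norm_num at h4
      obtain ⟨c, hc⟩ := h3
      have h7 : c = 1 ∨ c = 2 := by omega
      rcases h7 with rfl | rfl
      · left; omega
      · right; omega
    have hn := numU_gt hq (n := 4) (by norm_num)
    have hdP : P 2 (dd (.U 4) (p ^ f)) = dd (.U 4) (p ^ f) := by
      rcases hd with h | h <;> rw [h]
      · exact P_two_two
      · exact P2_4
    rw [hdP]
    have hd8 : dd (.U 4) (p ^ f) * 8 ≤ dd (.U 4) (p ^ f) ^ 4 := by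
      rcases hd with h | h <;> rw [h] <;> norm_num
    generalize dd (.U 4) (p ^ f) = d at *
    generalize p ^ f = q at *
    have h7 := pw (x := q) (Q := 14) (c := 8 ^ 4) (d := 4) (k := 12) (K := 15) h14 (by norm_num) (by norm_num)
      (by norm_num)
    have h8 : P 2 (num (.U 4) q) ^ 4 < 8 * (q ^ 6 * num (.U 4) q) := by
      calc P 2 (num (.U 4) q) ^ 4 ≤ (8 * (q + 1) ^ 3) ^ 4 := Nat.pow_le_pow_left hP 4
        _ = 8 ^ 4 * (q + 1) ^ 12 := by ring
        _ < 4 * q ^ 15 := h7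
        _ = 4 * (q ^ 6 * q ^ (4 * (4 + 1) / 2 - 1)) := by norm_num; ring
        _ ≤ 4 * (q ^ 6 * (2 * num (.U 4) q)) := Nat.mul_le_mul_left 4 (Nat.mul_le_mul_left _ hn.le)
        _ = 8 * (q ^ 6 * num (.U 4) q) := by ring
    have hd0 : 0 < d := by rcases hd with rfl | rfl <;> norm_num
    show _ < d ^ 4 * (q ^ 6 * num (.U 4) q)
    calc P 2 (num (.U 4) q) ^ 4 * d < 8 * (q ^ 6 * num (.U 4) q) * d := Nat.mul_lt_mul_of_pos_right h8 hd0
      _ = (d * 8) * (q ^ 6 * num (.U 4) q) := by ring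
      _ ≤ d ^ 4 * (q ^ 6 * num (.U 4) q) := Nat.mul_le_mul_right _ hd8
  · have fin : ∀ B : ℕ, P r (num (.U 4) (p ^ f)) ≤ B → 8 * B ^ 4 ≤ (p ^ f) ^ 15 → P r M ^ 4 < M := by
      intro B h1 h2
      exact finU h hr hrp h1 (dd_U_le (by norm_num)) (K := 15) (by norm_num) h2
    rcases PU_split hr hr2 hq hrq (n := 4) (by norm_num) with ⟨-, h1⟩ | ⟨e, R, he, hR1, hRe, hRev, h1⟩
    · refine fin (3 * (p ^ f + 1) ^ 3) ?_ ?_
      · rw [h1, mul_comm]
        exact Nat.mul_le_mul (fac_four hr hr2) (Nat.pow_le_pow_left (P_le (by omega)) _)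
      · generalize p ^ f = q at *
        have h7 := pw (x := q) (Q := 14) (c := 8 * 3 ^ 4) (d := 1) (k := 12) (K := 15) h14 (by norm_num)
          (by norm_num) (by norm_num)
        calc 8 * (3 * (q + 1) ^ 3) ^ 4 = 8 * 3 ^ 4 * (q + 1) ^ 12 := by ring
          _ ≤ 1 * q ^ 15 := h7.le
          _ = q ^ 15 := one_mul _
    · rw [h1] at fin
      have hcase : e = 2 ∨ e = 3 ∨ e = 4 ∨ 5 ≤ e := by omega
      rcases hcase with rfl | rfl | rfl | h5
      · have h2 : R ≤ p ^ f + 1 := by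
          have := hRev (by decide)
          rwa [Nat.div_self (by norm_num), pow_one] at this
        refine fin ((p ^ f + 1) ^ 2) ?_ ?_
        · show R ^ 2 * r ^ padicValNat r (Nat.factorial 2) ≤ _
          rw [fac_two hr hr2, mul_one]
          exact Nat.pow_le_pow_left h2 2
        · generalize p ^ f = q at *
          have h7 := pw (x := q) (Q := 14) (c := 8) (d := 1) (k := 8) (K := 15) h14 (by norm_num)
            (by norm_num) (by norm_num)
          calc 8 * ((q + 1) ^ 2) ^ 4 = 8 * (q + 1) ^ 8 := by ring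
            _ ≤ 1 * q ^ 15 := h7.le
            _ = q ^ 15 := one_mul _
      · refine fin ((p ^ f) ^ 3) ?_ ?_
        · show R ^ 1 * r ^ padicValNat r (Nat.factorial 1) ≤ _
          rw [fac1 hr, mul_one, pow_one]
          exact hRe
        · generalize p ^ f = q at *
          have h8 : 8 ≤ q ^ 3 := by
            calc 8 = 2 ^ 3 := by norm_num
              _ ≤ q ^ 3 := Nat.pow_le_pow_left hq 3
          calc 8 * (q ^ 3) ^ 4 ≤ q ^ 3 * (q ^ 3) ^ 4 := Nat.mul_le_mul_right _ h8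
            _ = q ^ 15 := by ring
      · have h2 : R ≤ (p ^ f) ^ 2 + 1 := hRev (by decide)
        refine fin ((p ^ f) ^ 2 + 1) ?_ ?_
        · show R ^ 1 * r ^ padicValNat r (Nat.factorial 1) ≤ _
          rw [fac1 hr, mul_one, pow_one]
          exact h2
        · generalize p ^ f = q at *
          have hq2 : 196 ≤ q ^ 2 := by nlinarith
          have h7 := pw (x := q ^ 2) (Q := 196) (c := 8) (d := 1) (k := 4) (K := 7) hq2 (by norm_num)
            (by norm_num) (by norm_num)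
          calc 8 * (q ^ 2 + 1) ^ 4 ≤ 1 * (q ^ 2) ^ 7 := h7.le
            _ = q ^ 14 := by rw [one_mul, ← pow_mul]
            _ ≤ q ^ 15 := Nat.pow_le_pow_right (by omega) (by norm_num)
      · have hz : 4 / e = 0 := Nat.div_eq_of_lt (by omega)
        rw [hz, pow_zero, one_mul, fac0 hr] at fin
        refine fin 1 le_rfl ?_
        have : 2 ^ 15 ≤ (p ^ f) ^ 15 := Nat.pow_le_pow_left hq 15
        omega

end Cfsg.Agent.H719.Quart
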